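import Groth.Agent.UnivOpen.UnibranchAlg
import Groth.Agent.S1373
import Groth.Agent.S4567
import Groth.Agent.MorLib.Thickening
import Groth.Agent.MorLib.UnivHomeo
import Groth.Agent.SteinX.Factor
import Groth.Agent.S4567
import Mathlib.RingTheory.Spectrum.Prime.Chevalley
import Mathlib.RingTheory.AdjoinRoot
import Mathlib.FieldTheory.Minpoly.IsIntegrallyClosed
import Mathlib.AlgebraicGeometry.AffineSpace

/-!
# Integral extensions of normal and of geometrically unibranch domains are universally open
-/

universe u

set_option autoImplicit false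
set_option linter.style.haveILetI false

open AlgebraicGeometry CategoryTheory Topology

namespace Groth.Agent.GUOpen

/-- An integral extension of a normal domain by a domain is open on spectra. -/
theorem isOpenMap_comap_normal {A C : Type u} [CommRing A] [IsDomain A] [IsIntegrallyClosed A]
    [CommRing C] [IsDomain C] [Algebra A C] [Algebra.IsIntegral A C]
    (hinj : Function.Injective (algebraMap A C)) :
    IsOpenMap (PrimeSpectrum.comap (algebraMap A C)) := by
  haveI : FaithfulSMul A C := (faithfulSMul_iff_algebraMap_injective A C).2 hinj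
  refine PrimeSpectrum.isTopologicalBasis_basic_opens.isOpenMap_iff.2 ?_
  rintro _ ⟨z, rfl⟩
  have hz : IsIntegral A z := Algebra.IsIntegral.isIntegral z
  let P := minpoly A z
  haveI : Module.Free A (AdjoinRoot P) := (minpoly.monic hz).free_adjoinRoot
  let φ : AdjoinRoot P →ₐ[A] C := AdjoinRoot.liftAlgHom P (Algebra.ofId A C) z (minpoly.aeval A z)
  have hφ : Function.Injective φ := by
    refine (injective_iff_map_eq_zero _).2 fun a ha => ?_
    obtain ⟨p, rfl⟩ := AdjoinRoot.mk_surjective a
    rw [AdjoinRoot.mk_eq_zero]
    refine (minpoly.isIntegrallyClosed_dvd_iff hz p).1 ?_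
    simpa [φ, Polynomial.aeval_def] using ha
  have hsurj : Function.Surjective (PrimeSpectrum.comap φ.toRingHom) := by
    refine RingHom.IsIntegral.comap_surjective (fun c => ?_) hφ
    refine RingHom.IsIntegral.tower_top (f := algebraMap A (AdjoinRoot P)) (g := φ.toRingHom) ?_ c
    rw [show φ.toRingHom.comp (algebraMap A (AdjoinRoot P)) = algebraMap A C from φ.comp_algebraMap]
    exact fun c => Algebra.IsIntegral.isIntegral c
  have hroot : φ.toRingHom (AdjoinRoot.root P) = z := by simp [φ]
  have hpre : (PrimeSpectrum.basicOpen z : Set (PrimeSpectrum C)) =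
      PrimeSpectrum.comap φ.toRingHom ⁻¹' PrimeSpectrum.basicOpen (AdjoinRoot.root P) := by
    ext q
    simp only [Set.mem_preimage, SetLike.mem_coe, PrimeSpectrum.mem_basicOpen,
      PrimeSpectrum.comap_asIdeal, Ideal.mem_comap, hroot]
  show IsOpen (PrimeSpectrum.comap (algebraMap A C) '' (PrimeSpectrum.basicOpen z : Set _))
  rw [hpre, ← show φ.toRingHom.comp (algebraMap A (AdjoinRoot P)) = algebraMap A C from φ.comp_algebraMap, PrimeSpectrum.comap_comp, Set.image_comp,
    Set.image_preimage_eq _ hsurj]
  exact PrimeSpectrum.isOpenMap_comap_of_hasGoingDown_of_finitePresentation _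
    (PrimeSpectrum.basicOpen _).isOpen

/-- An integral extension of a normal domain by a domain is universally open. -/
theorem universallyOpen_normal {A C : Type u} [CommRing A] [IsDomain A] [IsIntegrallyClosed A]
    [CommRing C] [IsDomain C] [Algebra A C] [Algebra.IsIntegral A C]
    (hinj : Function.Injective (algebraMap A C)) :
    UniversallyOpen (Spec.map (CommRingCat.ofHom (algebraMap A C))) := by
  refine (S1373.result _).2 fun n => ?_
  let σ := ULift.{u} (Fin n)
  letI : Algebra (MvPolynomial σ A) (MvPolynomial σ C) := MvPolynomial.algebraMvPolynomial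
  haveI := UnivOpen.isIntegrallyClosed_mvPolynomial A σ
  haveI := UnivOpen.isIntegral_mvPolynomial A C σ
  have h := isOpenMap_comap_normal (A := MvPolynomial σ A) (C := MvPolynomial σ C)
    (MvPolynomial.map_injective _ hinj)
  rw [AffineSpace.map_SpecMap]
  simp only [Scheme.Hom.comp_base, TopCat.coe_comp]
  exact ((AffineSpace.SpecIso σ (CommRingCat.of A)).inv.homeomorph.isOpenMap.comp h).comp
    (AffineSpace.SpecIso σ (CommRingCat.of C)).hom.homeomorph.isOpenMap

/-- An integral extension of a geometrically unibranch domain by a domain is universally open. -/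
theorem universallyOpen_integral_gu {A C : Type u} [CommRing A] [IsDomain A]
    (hA : ∀ (p : Ideal A) [p.IsPrime], UnivOpen.GU (Localization.AtPrime p))
    [CommRing C] [IsDomain C] [Algebra A C] [Algebra.IsIntegral A C]
    (hinj : Function.Injective (algebraMap A C)) :
    UniversallyOpen (Spec.map (CommRingCat.ofHom (algebraMap A C))) := by
  let K := FractionRing A
  let L := FractionRing C
  have hAL : Function.Injective (algebraMap A L) := by
    rw [IsScalarTower.algebraMap_eq A C L]
    exact (IsFractionRing.injective C L).comp hinj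
  haveI : FaithfulSMul A L := (faithfulSMul_iff_algebraMap_injective A L).2 hAL
  letI : Algebra K L := FractionRing.liftAlgebra A L
  haveI : IsScalarTower A K L := FractionRing.isScalarTower_liftAlgebra A L
  let A' := integralClosure A K
  let C' := integralClosure A L
  let ι : A' →+* C' := ((algebraMap K L).comp A'.val.toRingHom).codRestrict C' fun a =>
    IsIntegral.map (IsScalarTower.toAlgHom A K L) a.2
  let j : C →+* C' := (algebraMap C L).codRestrict C' fun c =>
    IsIntegral.map (IsScalarTower.toAlgHom A C L) (Algebra.IsIntegral.isIntegral c)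
  have hι : ι.comp (algebraMap A A') = algebraMap A C' :=
    RingHom.ext fun a => Subtype.ext (IsScalarTower.algebraMap_apply A K L a).symm
  have hj : j.comp (algebraMap A C) = algebraMap A C' :=
    RingHom.ext fun a => Subtype.ext (IsScalarTower.algebraMap_apply A C L a).symm
  have hint : (algebraMap A C').IsIntegral := fun c => Algebra.IsIntegral.isIntegral c
  have hjint : j.IsIntegral := fun c => by
    refine RingHom.IsIntegral.tower_top (f := algebraMap A C) (g := j) ?_ c
    rw [hj]; exact hint
  haveI : IsIntegrallyClosed A' := by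
    haveI : IsFractionRing A' K := integralClosure.isFractionRing_of_finite_extension K _
    exact integralClosure.isIntegrallyClosedOfFiniteExtension K
  have hup : UniversallyOpen (Spec.map (CommRingCat.ofHom ι)) := by
    letI : Algebra A' C' := ι.toAlgebra
    haveI : Algebra.IsIntegral A' C' := ⟨fun c =>
      RingHom.IsIntegral.tower_top (f := algebraMap A A') (g := ι) (by rw [hι]; exact hint) c⟩
    exact universallyOpen_normal fun a b h =>
      Subtype.ext ((algebraMap K L).injective (congrArg Subtype.val h))
  have hrad : MorLib.RUH.Radicial (algebraMap A A') := S4567.radicial_of_gu hA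
  let ν := Spec.map (CommRingCat.ofHom (algebraMap A A'))
  haveI : UniversallyInjective ν := (MorLib.RUH.universallyInjective_SpecMap_iff _).2 hrad
  have hAA' : (algebraMap A A').IsIntegral := fun c => Algebra.IsIntegral.isIntegral c
  haveI : IsIntegralHom ν := (IsIntegralHom.SpecMap_iff (φ := CommRingCat.ofHom (algebraMap A A'))).2 hAA'
  haveI : Surjective ν := (MorLib.RUH.surjective_SpecMap_iff _).2 (hAA'.comap_surjective fun a b h =>
    IsFractionRing.injective A K (congrArg Subtype.val h))
  haveI : UniversallyOpen ν :=
    MorLib.universallyOpen_of_isUnivHomeo (SteinX.isUnivHomeo_of_integral ν)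
  haveI : UniversallyOpen (Spec.map (CommRingCat.ofHom j) ≫
      Spec.map (CommRingCat.ofHom (algebraMap A C))) := by
    rw [← Spec.map_comp, ← CommRingCat.ofHom_comp, hj, ← hι, CommRingCat.ofHom_comp, Spec.map_comp]
    infer_instance
  haveI : Surjective (Spec.map (CommRingCat.ofHom j)) :=
    (MorLib.RUH.surjective_SpecMap_iff j).2 (hjint.comap_surjective fun a b h =>
      IsFractionRing.injective C L (congrArg Subtype.val h))
  exact MorLib.universallyOpen_of_comp_surjective (Spec.map (CommRingCat.ofHom j)) _

/-- Localizations of the reduced ring of a ring with prime nilradical and geometrically unibranch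
localizations. -/
theorem gu_localization_red {A : Type u} [CommRing A] [(nilradical A).IsPrime]
    (hA : ∀ (p : Ideal A) [p.IsPrime], CAlg2.IsGeomUnibranch (Localization.AtPrime p))
    (q : Ideal (A ⧸ nilradical A)) [q.IsPrime] : UnivOpen.GU (Localization.AtPrime q) := by
  let p := q.comap (Ideal.Quotient.mk (nilradical A))
  let g : Localization.AtPrime p →+* Localization.AtPrime q :=
    Localization.localRingHom p q (Ideal.Quotient.mk (nilradical A)) rfl
  haveI : IsDomain (Localization.AtPrime q) :=
    IsLocalization.isDomain_localization q.primeCompl_le_nonZeroDivisors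
  have hsurj : Function.Surjective g := fun z => by
    obtain ⟨a, s, rfl⟩ := IsLocalization.exists_mk'_eq q.primeCompl z
    obtain ⟨a, rfl⟩ := Ideal.Quotient.mk_surjective a
    obtain ⟨s, hs⟩ := s
    obtain ⟨s, rfl⟩ := Ideal.Quotient.mk_surjective s
    exact ⟨IsLocalization.mk' _ a (⟨s, hs⟩ : p.primeCompl), Localization.localRingHom_mk' _ _ _ _ _ _⟩
  have hker : RingHom.ker g = nilradical (Localization.AtPrime p) := by
    refine le_antisymm (fun z hz => ?_) fun z hz => (IsNilpotent.map hz g).eq_zero
    obtain ⟨a, s, rfl⟩ := IsLocalization.exists_mk'_eq p.primeCompl z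
    rw [RingHom.mem_ker, Localization.localRingHom_mk', IsLocalization.mk'_eq_zero_iff] at hz
    obtain ⟨⟨m, hm⟩, hma⟩ := hz
    obtain ⟨m, rfl⟩ := Ideal.Quotient.mk_surjective m
    have h : IsNilpotent (m * a) := by
      rw [← mem_nilradical, ← Ideal.Quotient.eq_zero_iff_mem, map_mul]
      exact hma
    obtain ⟨k, hk⟩ := h
    refine ⟨k, ?_⟩
    rw [← IsLocalization.mk'_pow, Ideal.zero_eq_bot, Ideal.mem_bot, IsLocalization.mk'_eq_zero_iff]
    exact ⟨⟨m, hm⟩ ^ k, by simpa [mul_pow] using hk⟩
  exact UnivOpen.GU.of_ringEquiv
    ((RingHom.quotientKerEquivOfSurjective hsurj).symm.trans (Ideal.quotEquivOfEq hker))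
    (UnivOpen.GU.of_isGeomUnibranch (hA p))

end Groth.Agent.GUOpen
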