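import Groth.Agent.GUOpen.Ring
import Groth.Agent.UnivOpen.Chevalley
import Groth.Agent.GrpPtsLib.DenseMul
import Groth.Agent.S3386

/-!
# Universal openness over geometrically unibranch schemes, without noetherian hypotheses
-/

universe u

set_option autoImplicit false
set_option linter.style.haveILetI false
set_option maxHeartbeats 1000000

open AlgebraicGeometry CategoryTheory Topology

namespace Groth.Agent.GUOpen

variable {X Y : Scheme.{u}}

/-- A morphism, locally of finite type, from an integral scheme to a geometrically unibranch scheme is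
universally open where it is quasi-finite and has dense image near the image point. -/
theorem isUnivOpenAt_of_quasiFinite [IsIntegral X]
    (hY : ∀ y : Y, CAlg2.IsGeomUnibranch (Y.presheaf.stalk y)) (f : X ⟶ Y) [LocallyOfFiniteType f]
    (x : X) (hqf : f.QuasiFiniteAt x) (V₀ : Y.Opens) (hxV₀ : f x ∈ V₀)
    (hd : (V₀ : Set Y) ⊆ closure (Set.range f)) : EGA43.IsUnivOpenAt f x := by
  obtain ⟨V, hV, hxV, hVV₀⟩ := exists_isAffineOpen_mem_and_subset (x := f x) (U := V₀) hxV₀
  obtain ⟨W, hW, hxW, hWV⟩ := exists_isAffineOpen_mem_and_subset (x := x) (U := f ⁻¹ᵁ V) hxV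
  let φ := f.appLE V W hWV
  letI : Algebra Γ(Y, V) Γ(X, W) := φ.hom.toAlgebra
  haveI : Algebra.FiniteType Γ(Y, V) Γ(X, W) :=
    HasRingHomProperty.appLE (P := @LocallyOfFiniteType) f inferInstance ⟨V, hV⟩ ⟨W, hW⟩ hWV
  haveI : Nonempty (W : Scheme.{u}) := ⟨⟨x, hxW⟩⟩
  haveI : IsDomain Γ(X, W) := inferInstance
  let p := (hW.primeIdealOf ⟨x, hxW⟩).asIdeal
  haveI : Algebra.QuasiFiniteAt Γ(Y, V) p := hqf.quasiFiniteAt hW hV hWV hxW
  obtain ⟨r, hr, hri, hC⟩ := Algebra.zariskisMainProperty_iff.1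
    (Algebra.ZariskisMainProperty.of_finiteType (R := Γ(Y, V)) p)
  have hr0 : r ≠ 0 := fun h => hr (h ▸ p.zero_mem)
  -- the kernel is the nilradical
  have hker : RingHom.ker φ.hom = nilradical Γ(Y, V) := by
    refine le_antisymm (fun a ha => ?_) fun a ha => (IsNilpotent.map ha φ.hom).eq_zero
    have h0 : Y.basicOpen a = ⊥ := by
      refine le_bot_iff.1 fun y hy => ?_
      obtain ⟨-, hx₁, x₁, rfl⟩ := mem_closure_iff.1 (hd (hVV₀ (Y.basicOpen_le a hy))) _
        (Y.basicOpen a).isOpen hy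
      obtain ⟨x₂, hx₂, hx₂W⟩ := nonempty_preirreducible_inter
        ((Y.basicOpen a).isOpen.preimage f.continuous) W.isOpen ⟨x₁, hx₁⟩ ⟨x, hxW⟩
      have h1 : x₂ ∈ X.basicOpen (φ.hom a) := by
        show x₂ ∈ X.basicOpen ((f.appLE V W hWV).hom a)
        rw [Scheme.basicOpen_appLE]
        exact ⟨hx₂W, hx₂⟩
      rw [RingHom.mem_ker.1 ha, Scheme.basicOpen_zero] at h1
      exact h1
    have h1 : hV.fromSpec ⁻¹ᵁ Y.basicOpen a = ⊥ := by rw [h0]; exact Scheme.Hom.preimage_bot _
    rw [hV.fromSpec_preimage_basicOpen] at h1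
    rw [mem_nilradical]
    exact (PrimeSpectrum.basicOpen_eq_bot_iff a).1 h1
  haveI : (nilradical Γ(Y, V)).IsPrime := hker ▸ RingHom.ker_isPrime φ.hom
  have hGU : ∀ (q : Ideal Γ(Y, V)) [q.IsPrime],
      CAlg2.IsGeomUnibranch (Localization.AtPrime q) := fun q _ => by
    letI : Algebra Γ(Y, V) (Y.presheaf.stalk (hV.fromSpec ⟨q, inferInstance⟩)) :=
      TopCat.Presheaf.algebra_section_stalk Y.presheaf
        (⟨_, hV.range_fromSpec.subset ⟨_, rfl⟩⟩ : V)
    haveI : IsLocalization q.primeCompl (Y.presheaf.stalk (hV.fromSpec ⟨q, inferInstance⟩)) :=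
      hV.isLocalization_stalk' ⟨q, inferInstance⟩ (hV.range_fromSpec.subset ⟨_, rfl⟩)
    exact UnivOpen.isGeomUnibranch_of_ringEquiv
      (IsLocalization.algEquiv q.primeCompl (Y.presheaf.stalk (hV.fromSpec ⟨q, inferInstance⟩))
        (Localization.AtPrime q)).toRingEquiv (hY _)
  let A₀ := Γ(Y, V) ⧸ nilradical Γ(Y, V)
  let C := integralClosure Γ(Y, V) Γ(X, W)
  let ψ : A₀ →+* C := Ideal.Quotient.lift _ (algebraMap Γ(Y, V) C) fun a ha => Subtype.ext (by
    rw [← hker] at ha; exact ha)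
  letI : Algebra A₀ C := ψ.toAlgebra
  haveI : Algebra.IsIntegral A₀ C := ⟨fun c => by
    obtain ⟨P, hP, he⟩ := Algebra.IsIntegral.isIntegral (R := Γ(Y, V)) c
    exact ⟨P.map (Ideal.Quotient.mk _), hP.map _, by rw [Polynomial.eval₂_map]; exact he⟩⟩
  have hψ : Function.Injective (algebraMap A₀ C) := by
    refine RingHom.lift_injective_of_ker_le_ideal _ _ fun a ha => ?_
    rw [← hker]
    exact congrArg Subtype.val (RingHom.mem_ker.1 ha)
  haveI := universallyOpen_integral_gu (gu_localization_red hGU) hψ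
  let π := Spec.map (CommRingCat.ofHom (Ideal.Quotient.mk (nilradical Γ(Y, V))))
  haveI : IsClosedImmersion π := IsClosedImmersion.spec_of_surjective _ Ideal.Quotient.mk_surjective
  haveI : Surjective π := (MorLib.RUH.surjective_SpecMap_iff _).2 fun q =>
    ⟨⟨q.asIdeal.map (Ideal.Quotient.mk _), Ideal.map_isPrime_of_surjective Ideal.Quotient.mk_surjective
      (by rw [Ideal.mk_ker]; exact nilradical_le_prime _)⟩, PrimeSpectrum.ext (by
        show (q.asIdeal.map (Ideal.Quotient.mk _)).comap (Ideal.Quotient.mk _) = q.asIdeal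
        rw [Ideal.comap_map_mk]
        exact nilradical_le_prime _)⟩
  haveI : UniversallyOpen π := GrpPtsLib.universallyOpen_of_surjective_closedImmersion π
  -- the open piece
  let B := Localization.Away r
  letI : Algebra C B := ((algebraMap Γ(X, W) B).comp C.val.toRingHom).toAlgebra
  have hBi : Function.Injective (algebraMap Γ(X, W) B) :=
    IsLocalization.injective B (Submonoid.powers_le.2 (mem_nonZeroDivisors_of_ne_zero hr0))
  haveI : IsLocalization.Away (⟨r, hri⟩ : C) B := by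
    refine IsLocalization.Away.mk (⟨r, hri⟩ : C) (IsLocalization.Away.algebraMap_isUnit (S := B) r)
      (fun z => ?_) (fun a b h => ⟨0, by rw [Subtype.ext (hBi h)]⟩)
    obtain ⟨n, b, hb⟩ := IsLocalization.Away.surj r z
    obtain ⟨m, hm⟩ := hC b
    refine ⟨m + n, ⟨_, hm⟩, ?_⟩
    show z * (algebraMap Γ(X, W) B r) ^ (m + n) = algebraMap Γ(X, W) B (r ^ m * b)
    rw [map_mul, map_pow, ← hb]
    ring
  haveI := AlgebraicGeometry.IsOpenImmersion.of_isLocalization (S := B) (⟨r, hri⟩ : C)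
  haveI := AlgebraicGeometry.IsOpenImmersion.of_isLocalization (S := B) r
  let j := Spec.map (CommRingCat.ofHom (algebraMap Γ(X, W) B)) ≫ hW.fromSpec
  have heq : Spec.map (CommRingCat.ofHom (algebraMap C B)) ≫
      (Spec.map (CommRingCat.ofHom (algebraMap A₀ C)) ≫ π) ≫ hV.fromSpec = j ≫ f := by
    simp only [j, Category.assoc]
    rw [← hV.SpecMap_appLE_fromSpec f hW hWV, ← Spec.map_comp_assoc,
      ← Spec.map_comp_assoc, ← Spec.map_comp_assoc]
    rfl
  haveI : UniversallyOpen (j ≫ f) := by rw [← heq]; infer_instance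
  obtain ⟨d, hd⟩ : x ∈ Set.range j := by
    obtain ⟨d, hd⟩ : hW.primeIdealOf ⟨x, hxW⟩ ∈
        Set.range (PrimeSpectrum.comap (algebraMap Γ(X, W) B)) := by
      rw [PrimeSpectrum.localization_away_comap_range B r]
      exact hr
    exact ⟨d, (congrArg hW.fromSpec hd).trans (hW.fromSpec_primeIdealOf ⟨x, hxW⟩)⟩
  exact hd ▸ QHomeo.univOpenAt_of_comp ((UnivOpen.universallyOpen_iff_forall (j ≫ f)).1 inferInstance d)

/-- A morphism from an integral scheme to a geometrically unibranch scheme is universally open where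
it is equidimensional, if the image point has an irreducible open neighbourhood. -/
theorem isUnivOpenAt_of_isEquidimAt [IsIntegral X]
    (hY : ∀ y : Y, CAlg2.IsGeomUnibranch (Y.presheaf.stalk y)) (f : X ⟶ Y) [LocallyOfFiniteType f]
    (x : X) (hf : EGA43.IsEquidimAt f x) (Y₀ : Y.Opens) (hirr : IsIrreducible (Y₀ : Set Y))
    (hxY₀ : f x ∈ Y₀) : EGA43.IsUnivOpenAt f x := by
  obtain ⟨e, U, g, hxU, hg, hqf, hcomp⟩ := (S3386.result f x).1 hf
  haveI := hqf
  let π := (𝔸(ULift.{u} (Fin e); Y) ↘ Y)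
  haveI : LocallyOfFiniteType g := by
    haveI : LocallyOfFiniteType (g ≫ π) := by rw [hg]; infer_instance
    exact locallyOfFiniteType_of_comp g π
  haveI : Nonempty (U : Scheme.{u}) := ⟨⟨x, hxU⟩⟩
  haveI : IsIntegral (U : Scheme.{u}) := isIntegral_of_isOpenImmersion U.ι
  let ι := AffineSpace.map (ULift.{u} (Fin e)) Y₀.ι
  haveI : IsOpenImmersion ι :=
    MorphismProperty.of_isPullback (P := @IsOpenImmersion) (AffineSpace.isPullback_map Y₀.ι).flip inferInstance
  haveI : IrreducibleSpace ↥(Y₀ : Scheme.{u}) := Subtype.irreducibleSpace hirr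
  have hrange : Set.range ι = π ⁻¹' (Y₀ : Set Y) := by
    show Set.range (AffineSpace.map (ULift.{u} (Fin e)) Y₀.ι) = _
    rw [← (AffineSpace.isPullback_map (n := ULift.{u} (Fin e)) Y₀.ι).isoPullback_hom_fst,
      Scheme.Hom.comp_base, TopCat.coe_comp, Set.range_comp, Scheme.Hom.surjective _ |>.range_eq,
      Set.image_univ, Scheme.Pullback.range_fst, Scheme.Opens.range_ι]
  have hπ : π (g ⟨x, hxU⟩) = f x := by
    show (g ≫ π) ⟨x, hxU⟩ = _
    rw [hg]; rfl
  have hC := hcomp Set.univ ((irreducibleComponents_eq_singleton (X := ↥(U : Scheme.{u}))).symm ▸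
      Set.mem_singleton _)
  erw [Set.image_univ] at hC
  have hgx : g ⟨x, hxU⟩ ∈ Set.range ι := by rw [hrange, Set.mem_preimage, hπ]; exact hxY₀
  have hopen : IsOpen (Set.range ι) := ι.isOpenEmbedding.isOpen_range
  have hsub : closure (Set.range g.base) ⊆ closure (Set.range ι) :=
    (subset_closure_inter_of_isPreirreducible_of_isOpen hC.1.2 hopen ⟨_, subset_closure ⟨_, rfl⟩, hgx⟩).trans
      (closure_mono Set.inter_subset_right)
  have hV₀ : Set.range ι ⊆ closure (Set.range g) := by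
    refine subset_closure.trans (hC.2 ?_ hsub)
    rw [← Set.image_univ]
    exact ((IrreducibleSpace.isIrreducible_univ ↥𝔸(ULift.{u} (Fin e); (Y₀ : Scheme.{u}))).image _
      ι.continuous.continuousOn).closure
  have h1 := isUnivOpenAt_of_quasiFinite (fun y => UnivOpen.isGeomUnibranch_affineSpace _ y (hY _))
    g ⟨x, hxU⟩ (g.quasiFiniteAt _) ⟨Set.range ι, hopen⟩ hgx hV₀
  haveI := UnivOpen.universallyOpen_affineSpace (Y := Y) (ULift.{u} (Fin e))
  have h2 := QHomeo.univOpenAt_comp h1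
    ((UnivOpen.universallyOpen_iff_forall π).1 inferInstance (g ⟨x, hxU⟩))
  rw [hg] at h2
  exact QHomeo.univOpenAt_of_comp h2

end Groth.Agent.GUOpen
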